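import Groth.Agent.FlatLoc6.Supp
import Groth.Agent.QCoh.FlatOver
import Groth.Agent.QCoh.AnnIdeal
import Groth.Agent.AssLib.Push
import Groth.Agent.S2286

/-!
# Generizations lift along the support of a flat module of finite type
-/

set_option autoImplicit false
set_option backward.isDefEq.respectTransparency false
set_option backward.isDefEq.respectTransparency.types false

universe u

open CategoryTheory AlgebraicGeometry TensorProduct

namespace Groth.Agent.SuppTensor

/-- Going down on the support of a finite module that is flat over the base ring. -/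
theorem exists_le_of_flat {A B : Type u} [CommRing A] [CommRing B] [Algebra A B]
    (N : Type u) [AddCommGroup N] [Module B N] [Module A N] [IsScalarTower A B N]
    [Module.Finite B N] [Module.Flat A N] {p : Ideal A} [hp : p.IsPrime] {Q : PrimeSpectrum B}
    (hQ : Q ∈ Module.support B N) (hle : p ≤ Q.asIdeal.comap (algebraMap A B)) :
    ∃ P ∈ Module.support B N, P.asIdeal ≤ Q.asIdeal ∧ P.asIdeal.comap (algebraMap A B) = p := by
  haveI : Module.Finite B (N ⊗[A] (A ⧸ p)) := LocalCrit.finite_tensor (C := B) N (A ⧸ p)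
  have hQ' : Q ∈ Module.support B (N ⊗[A] (A ⧸ p)) := by
    refine (FlatLoc6.mem_support_tensor_iff Q).mpr ⟨hQ, ?_⟩
    rw [Module.mem_support_iff_of_finite, Ideal.annihilator_quotient]
    exact hle
  obtain ⟨P, hP, hPQ⟩ := Ideal.exists_minimalPrimes_le (J := Q.asIdeal)
    (Module.mem_support_iff_of_finite.mp hQ')
  haveI := hP.1.1
  have hsupp : (⟨P, hP.1.1⟩ : PrimeSpectrum B) ∈ Module.support B N :=
    ((FlatLoc6.mem_support_tensor_iff _).mp (Module.mem_support_iff_of_finite.mpr hP.1.2)).1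
  have hann : ∀ a ∈ p, algebraMap A B a ∈ Module.annihilator B (N ⊗[A] (A ⧸ p)) := fun a ha => by
    rw [Module.mem_annihilator]
    intro z
    induction z using TensorProduct.induction_on with
    | zero => simp
    | tmul n c =>
      obtain ⟨c, rfl⟩ := Ideal.Quotient.mk_surjective c
      rw [TensorProduct.smul_tmul', algebraMap_smul, TensorProduct.smul_tmul, Algebra.smul_def,
        Ideal.Quotient.algebraMap_eq, Ideal.Quotient.eq_zero_iff_mem.mpr ha, zero_mul, TensorProduct.tmul_zero]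
    | add x y hx hy => rw [smul_add, hx, hy, add_zero]
  refine ⟨⟨P, hP.1.1⟩, hsupp, hPQ, le_antisymm (fun a ha => ?_) (fun a ha => hP.1.2 (hann a ha))⟩
  by_contra hap
  obtain ⟨y, hy, hay⟩ := Ideal.exists_mul_mem_of_mem_minimalPrimes hP ha
  refine hy (Module.mem_annihilator.mpr fun z => ?_)
  have hreg : IsSMulRegular (A ⧸ p) a := by
    rw [isSMulRegular_iff_right_eq_zero_of_smul]
    intro c hc
    obtain ⟨c, rfl⟩ := Ideal.Quotient.mk_surjective c
    rw [Algebra.smul_def, Ideal.Quotient.algebraMap_eq, ← map_mul, Ideal.Quotient.eq_zero_iff_mem] at hc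
    exact Ideal.Quotient.eq_zero_iff_mem.mpr ((hp.mem_or_mem hc).resolve_left hap)
  refine (hreg.lTensor N).right_eq_zero_of_smul ?_
  rw [← algebraMap_smul B a (y • z), smul_smul]
  exact Module.mem_annihilator.mp hay z

variable {X Y : Scheme.{u}}

/-- A generization of the image of a point of the support lifts to a generization in the support. -/
theorem exists_specializes_of_isFlatOver (f : X ⟶ Y) (F : X.Modules) (hF : Coh.IsCoh F)
    (hfl : FlatMod.IsFlatOver f F) {x : X} (hx : x ∈ CohB1.support F) {w : Y} (hw : w ⤳ f x) :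
    ∃ z ∈ CohB1.support F, z ⤳ x ∧ f z = w := by
  obtain ⟨_, ⟨V, hV, rfl⟩, hxV, -⟩ :=
    Y.isBasis_affineOpens.exists_subset_of_mem_open (Set.mem_univ (f x)) isOpen_univ
  obtain ⟨_, ⟨U, hU, rfl⟩, hxU, hle⟩ :=
    X.isBasis_affineOpens.exists_subset_of_mem_open (show x ∈ f ⁻¹ᵁ V from hxV) (f ⁻¹ᵁ V).2
  replace hU : IsAffineOpen U := hU
  replace hV : IsAffineOpen V := hV
  have hwV : w ∈ V := hw.mem_open V.isOpen hxV
  letI : Algebra Γ(Y, V) Γ(X, U) := (f.appLE V U hle).hom.toAlgebra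
  letI : Module Γ(Y, V) Γ(F, U) := Module.compHom _ (f.appLE V U hle).hom
  haveI : IsScalarTower Γ(Y, V) Γ(X, U) Γ(F, U) := IsScalarTower.of_algebraMap_smul fun _ _ => rfl
  haveI := QCoh.finite_sections hF hU
  haveI : Module.Flat Γ(Y, V) Γ(F, U) := (QCoh.isFlatOver_iff f hF.1).1 hfl U V hle hU hV
  have hcomap : ∀ (z : X) (hz : z ∈ U), (hU.primeIdealOf ⟨z, hz⟩).asIdeal.comap (algebraMap Γ(Y, V) Γ(X, U)) =
      (hV.primeIdealOf ⟨f z, hle hz⟩).asIdeal := fun z hz => by
    rw [RingHom.algebraMap_toAlgebra]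
    exact AssLib.comap_primeIdealOf f hV hU hle hz
  haveI := (hV.primeIdealOf ⟨w, hwV⟩).isPrime
  obtain ⟨P, hP, hPQ, hPp⟩ := exists_le_of_flat Γ(F, U) (Q := hU.primeIdealOf ⟨x, hxU⟩)
    (p := (hV.primeIdealOf ⟨w, hwV⟩).asIdeal) ((QCoh.mem_moduleSupport_iff hF.1 hU hxU).2 hx)
    (by rw [hcomap x hxU]; exact (AssLib.primeIdealOf_le_iff hV hxV hwV).2 hw)
  obtain ⟨z, hzU, rfl⟩ := QCoh.exists_point hU P
  refine ⟨z, (QCoh.mem_moduleSupport_iff hF.1 hU hzU).1 hP, (AssLib.primeIdealOf_le_iff hU hxU hzU).1 hPQ, ?_⟩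
  rw [hcomap z hzU] at hPp
  exact AssLib.eq_of_primeIdealOf_eq hV hwV (hle hzU) hPp

/-- The support of `f^* E ⊗ F`. -/
theorem support_pullback_tensor (f : X ⟶ Y) (F : X.Modules) (hF : Coh.IsCoh F)
    (E : Y.Modules) (hE : Coh.IsCoh E) :
    CohB1.support (CohB1.tensorMod ((Scheme.Modules.pullback f).obj E) F) =
      f ⁻¹' CohB1.support E ∩ CohB1.support F := by
  rw [S2286.tensorMod_eq, S2286.support_tensor _ _ (QCoh.isQCoh_pullback f hE.1)
    (QCoh.isFT_pullback f hE.1 hE.2) hF.1 hF.2, QCoh.support_pullback f hE.1 hE.2]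

end Groth.Agent.SuppTensor
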